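import Groth.Agent.Calg7.Derived.TorLinear
import Mathlib.RingTheory.Flat.Tensor
import Mathlib.RingTheory.Finiteness.Cardinality

/-! Finiteness of `Tor` and flatness criteria. -/

set_option autoImplicit false

universe u

open CategoryTheory MonoidalCategory Limits TensorProduct

namespace Groth.Calg7.Tor

variable {R : Type u} [CommRing R]

/-- the sequence `I → R → R/I` -/
noncomputable abbrev idealSeq (I : Ideal R) : ShortComplex (ModuleCat.{u} R) :=
  ShortComplex.mk (ModuleCat.ofHom (X := ↥I) (Y := R) I.subtype)
    (ModuleCat.ofHom (X := R) (Y := R ⧸ I) I.mkQ)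
    (ModuleCat.hom_ext (LinearMap.ext fun a => (Submodule.Quotient.mk_eq_zero _).2 a.2))

lemma idealSeq_shortExact (I : Ideal R) : (idealSeq I).ShortExact where
  exact := (ShortComplex.ShortExact.moduleCat_exact_iff_function_exact _).2
    (LinearMap.exact_subtype_mkQ I)
  mono_f := (ModuleCat.mono_iff_injective _).2 Subtype.val_injective
  epi_g := (ModuleCat.epi_iff_surjective _).2 (Submodule.mkQ_surjective _)

/-- flatness by the vanishing of `Tor₁(M, R/I)` on finitely generated ideals -/
theorem flat_iff_isZero_tor_one (M : Type u) [AddCommGroup M] [Module R M] :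
    Module.Flat R M ↔ ∀ I : Ideal R, I.FG → IsZero (T 1 (ModuleCat.of R M) (ModuleCat.of R (R ⧸ I))) := by
  refine ⟨fun _ I _ => isZero_of_flat_left _ 0, fun h => ?_⟩
  rw [Module.Flat.iff_lTensor_injective]
  exact fun I hI => (isZero_one_iff _ (idealSeq_shortExact I) (isZero_of_flat_right _ _ 0)).1 (h I hI)

/-- `Tor` of finite modules over a Noetherian ring is finite. -/
theorem finite_T [IsNoetherianRing R] (M N : ModuleCat.{u} R) [Module.Finite R M] [Module.Finite R N]
    (n : ℕ) : Module.Finite R (T n M N) := by
  induction n generalizing N with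
  | zero => exact finite_T_zero M N
  | succ n ih =>
    obtain ⟨r, π, hπ⟩ := Module.Finite.exists_fin' R N
    let S : ShortComplex (ModuleCat.{u} R) :=
      ShortComplex.mk (ModuleCat.ofHom (X := ↥(LinearMap.ker π)) (Y := Fin r → R) (Submodule.subtype _))
        (ModuleCat.ofHom (X := Fin r → R) (Y := N) π)
        (ModuleCat.hom_ext (LinearMap.ext fun a => a.2))
    have hS : S.ShortExact :=
      { exact := (ShortComplex.ShortExact.moduleCat_exact_iff_function_exact _).2
          (LinearMap.exact_subtype_ker_map π)
        mono_f := (ModuleCat.mono_iff_injective _).2 Subtype.val_injective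
        epi_g := (ModuleCat.epi_iff_surjective _).2 hπ }
    haveI : Module.Flat R S.X₂ := inferInstanceAs (Module.Flat R (Fin r → R))
    haveI : Module.Finite R S.X₁ := inferInstanceAs (Module.Finite R (LinearMap.ker π))
    haveI := subsingleton_of_isZero (isZero_of_flat_right M S.X₂ n)
    exact @finite_of_exact _ _ _ _ (exactR₃ M hS n)
      (inferInstance : Module.Finite R (T (n + 1) M S.X₂)) (ih S.X₁)

end Groth.Calg7.Tor
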