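import Groth.Agent.Calg7.Derived.Tor
import Mathlib.Algebra.Homology.ShortComplex.Linear
import Mathlib.Algebra.Category.ModuleCat.Monoidal.Basic
import Mathlib.RingTheory.Noetherian.Basic

/-! Scalars and finiteness for `Tor` in the first variable. -/

set_option autoImplicit false

universe u

open CategoryTheory MonoidalCategory Limits TensorProduct

namespace Groth.Calg7.Tor

variable {R : Type u} [CommRing R]

/-- A scalar endomorphism of the first variable acts as the scalar. -/
lemma mapL_smul_id (M N : ModuleCat.{u} R) (n : ℕ) (r : R) :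
    mapL n (r • 𝟙 M) N = r • 𝟙 (T n M N) := by
  obtain ⟨P⟩ := (inferInstance : HasProjectiveResolution N).out
  have h1 : (HomologicalComplex.homologyFunctor (ModuleCat.{u} R) (ComplexShape.down ℕ) n).map
      ((NatTrans.mapHomologicalComplex ((tensoringLeft (ModuleCat.{u} R)).map (r • 𝟙 M)) _).app
        P.complex) = r • 𝟙 _ := by
    have e : (HomologicalComplex.shortComplexFunctor (ModuleCat.{u} R) (ComplexShape.down ℕ) n).map
        ((NatTrans.mapHomologicalComplex ((tensoringLeft (ModuleCat.{u} R)).map (r • 𝟙 M)) _).app
          P.complex) = r • 𝟙 _ := by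
      ext1 <;>
      · change (r • 𝟙 M) ▷ _ = r • 𝟙 (M ⊗ _)
        rw [MonoidalLinear.smul_whiskerRight, id_whiskerRight]
    change ShortComplex.homologyMap _ = _
    rw [e, ShortComplex.homologyMap_smul, ShortComplex.homologyMap_id]
    rfl
  change (NatTrans.leftDerived ((tensoringLeft (ModuleCat.{u} R)).map (r • 𝟙 M)) n).app N = _
  rw [P.leftDerived_app_eq, h1, Linear.smul_comp, Linear.comp_smul, Category.id_comp,
    Iso.hom_inv_id]
  rfl

lemma finite_of_iso {X Y : ModuleCat.{u} R} (e : X ≅ Y) [Module.Finite R Y] : Module.Finite R X :=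
  Module.Finite.equiv e.toLinearEquiv.symm

lemma finite_T_zero (M N : ModuleCat.{u} R) [Module.Finite R M] [Module.Finite R N] :
    Module.Finite R (T 0 M N) :=
  haveI : Module.Finite R (((tensoringLeft (ModuleCat.{u} R)).obj M).obj N) :=
    inferInstanceAs (Module.Finite R (M ⊗[R] N))
  finite_of_iso ((zeroIso M).app N)

/-- over a Noetherian ring, the middle of an exact sequence with finite ends is finite -/
lemma finite_of_exact [IsNoetherianRing R] {S : ShortComplex (ModuleCat.{u} R)} (hS : S.Exact)
    [Module.Finite R S.X₁] [Module.Finite R S.X₃] : Module.Finite R S.X₂ := by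
  have h := (ShortComplex.ShortExact.moduleCat_exact_iff_function_exact S).1 hS
  haveI : IsNoetherian R S.X₁ := inferInstance
  haveI : IsNoetherian R S.X₃ := inferInstance
  haveI : IsNoetherian R S.X₂ := isNoetherian_of_range_eq_ker S.f.hom S.g.hom
    (LinearMap.exact_iff.1 h).symm
  infer_instance

end Groth.Calg7.Tor
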