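import Groth.Agent.Calg7.Derived.LES

/-! Naturality of the connecting maps of left derived functors: morphisms of horseshoe resolutions. -/

set_option autoImplicit false

universe v u v' u'

open CategoryTheory Category Limits

namespace Groth.Calg7.Derived

variable {C : Type u} [Category.{v} C] [Abelian C]
variable {S S' : ShortComplex C} (hS : S.ShortExact) (hS' : S'.ShortExact) (ψ : S ⟶ S')
variable (P : ProjectiveResolution S.X₁) (Q : ProjectiveResolution S.X₃)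
variable (P' : ProjectiveResolution S'.X₁) (Q' : ProjectiveResolution S'.X₃)
variable (φ₁ : P.complex ⟶ P'.complex) (φ₃ : Q.complex ⟶ Q'.complex)
variable (c₁ : φ₁.f 0 ≫ a₀ P' = a₀ P ≫ ψ.τ₁) (c₃ : φ₃.f 0 ≫ a₀ Q' = a₀ Q ≫ ψ.τ₃)

/-- the obstruction -/
noncomputable def obst (n : ℕ) (σ : Q.complex.X n ⟶ P'.complex.X n) :
    Q.complex.X (n + 1) ⟶ P'.complex.X n :=
  tau hS P Q n ≫ φ₁.f n + Q.complex.d (n + 1) n ≫ σ - φ₃.f (n + 1) ≫ tau hS' P' Q' n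

/-- the predicate allowing the next step -/
def NextM (n : ℕ) (σ : Q.complex.X n ⟶ P'.complex.X n) : Prop :=
  ∃ σ' : Q.complex.X (n + 1) ⟶ P'.complex.X (n + 1),
    σ' ≫ P'.complex.d (n + 1) n = obst hS hS' P Q P' Q' φ₁ φ₃ n σ

include c₁ c₃ in
lemma nextM_zero : ∃ σ : Q.complex.X 0 ⟶ P'.complex.X 0,
    σ ≫ a₀ P' ≫ S'.f + φ₃.f 0 ≫ lam hS' Q' = lam hS Q ≫ ψ.τ₂ ∧
      NextM hS hS' P Q P' Q' φ₁ φ₃ 0 σ := by
  haveI := hS'.mono_f
  have h : (lam hS Q ≫ ψ.τ₂ - φ₃.f 0 ≫ lam hS' Q') ≫ S'.g = 0 := by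
    rw [Preadditive.sub_comp, assoc, assoc, ψ.comm₂₃, ← assoc, lam_g, lam_g, c₃, sub_self]
  let t : Q.complex.X 0 ⟶ S'.X₁ := hS'.exact.lift _ h
  have ht : t ≫ S'.f = lam hS Q ≫ ψ.τ₂ - φ₃.f 0 ≫ lam hS' Q' := hS'.exact.lift_f _ h
  let σ : Q.complex.X 0 ⟶ P'.complex.X 0 := Projective.factorThru t (a₀ P')
  have hσ : σ ≫ a₀ P' = t := Projective.factorThru_comp _ _
  refine ⟨σ, by rw [← assoc, hσ, ht, sub_add_cancel], ?_⟩
  have hk : obst hS hS' P Q P' Q' φ₁ φ₃ 0 σ ≫ a₀ P' = 0 := by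
    rw [← cancel_mono S'.f, zero_comp]
    have e2 : tau hS' P' Q' 0 ≫ a₀ P' ≫ S'.f = -(Q'.complex.d 1 0 ≫ lam hS' Q') :=
      eq_neg_of_add_eq_zero_left (tau_zero hS' P' Q')
    have e1 : tau hS P Q 0 ≫ φ₁.f 0 ≫ a₀ P' ≫ S'.f = -(Q.complex.d 1 0 ≫ lam hS Q ≫ ψ.τ₂) := by
      rw [← assoc (φ₁.f 0), c₁, assoc, ψ.comm₁₂]
      simp only [← assoc]
      rw [← Preadditive.neg_comp]
      congr 1
      rw [assoc]
      exact eq_neg_of_add_eq_zero_left (tau_zero hS P Q)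
    simp only [obst, Preadditive.sub_comp, Preadditive.add_comp, assoc, e1, e2,
      Preadditive.comp_neg]
    rw [← assoc σ, hσ, ht, Preadditive.comp_sub, ← assoc (φ₃.f 1), φ₃.comm 1 0, assoc]
    abel
  obtain ⟨σ', hσ'⟩ : ∃ σ' : Q.complex.X 1 ⟶ P'.complex.X 1,
      σ' ≫ P'.complex.d 1 0 = obst hS hS' P Q P' Q' φ₁ φ₃ 0 σ :=
    ⟨(a₀_exact P').liftFromProjective _ hk, (a₀_exact P').liftFromProjective_comp _ hk⟩
  exact ⟨σ', hσ'⟩

lemma nextM_succ (n : ℕ) (σ : Q.complex.X n ⟶ P'.complex.X n)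
    (h : NextM hS hS' P Q P' Q' φ₁ φ₃ n σ) :
    ∃ σ' : Q.complex.X (n + 1) ⟶ P'.complex.X (n + 1),
      σ' ≫ P'.complex.d (n + 1) n = obst hS hS' P Q P' Q' φ₁ φ₃ n σ ∧
        NextM hS hS' P Q P' Q' φ₁ φ₃ (n + 1) σ' := by
  obtain ⟨σ', h'⟩ := h
  have e1 : tau hS P Q (n + 1) ≫ φ₁.f (n + 1) ≫ P'.complex.d (n + 1) n =
      -(Q.complex.d (n + 2) (n + 1) ≫ tau hS P Q n ≫ φ₁.f n) := by
    rw [φ₁.comm, ← assoc, eq_neg_of_add_eq_zero_left (tau_succ hS P Q n), Preadditive.neg_comp, assoc]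
  have e2 : tau hS' P' Q' (n + 1) ≫ P'.complex.d (n + 1) n =
      -(Q'.complex.d (n + 2) (n + 1) ≫ tau hS' P' Q' n) :=
    eq_neg_of_add_eq_zero_left (tau_succ hS' P' Q' n)
  have hk : obst hS hS' P Q P' Q' φ₁ φ₃ (n + 1) σ' ≫ P'.complex.d (n + 1) n = 0 := by
    simp only [obst, Preadditive.sub_comp, Preadditive.add_comp, assoc, e1, e2, h',
      Preadditive.comp_sub, Preadditive.comp_add, Preadditive.comp_neg,
      HomologicalComplex.d_comp_d_assoc, zero_comp]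
    rw [← assoc (φ₃.f _), φ₃.comm, assoc]
    abel
  obtain ⟨σ'', hσ''⟩ : ∃ σ'' : Q.complex.X (n + 2) ⟶ P'.complex.X (n + 2),
      σ'' ≫ P'.complex.d (n + 2) (n + 1) = obst hS hS' P Q P' Q' φ₁ φ₃ (n + 1) σ' :=
    ⟨(P'.exact_succ n).liftFromProjective _ hk, (P'.exact_succ n).liftFromProjective_comp _ hk⟩
  exact ⟨σ', h', σ'', hσ''⟩

/-- the off-diagonal components -/
noncomputable def sigAux : ∀ n,
    {σ : Q.complex.X n ⟶ P'.complex.X n // NextM hS hS' P Q P' Q' φ₁ φ₃ n σ}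
  | 0 => ⟨(nextM_zero hS hS' ψ P Q P' Q' φ₁ φ₃ c₁ c₃).choose,
      (nextM_zero hS hS' ψ P Q P' Q' φ₁ φ₃ c₁ c₃).choose_spec.2⟩
  | n + 1 => ⟨(nextM_succ hS hS' P Q P' Q' φ₁ φ₃ n _ (sigAux n).2).choose,
      (nextM_succ hS hS' P Q P' Q' φ₁ φ₃ n _ (sigAux n).2).choose_spec.2⟩

/-- the off-diagonal components -/
noncomputable def sig (n : ℕ) : Q.complex.X n ⟶ P'.complex.X n :=
  (sigAux hS hS' ψ P Q P' Q' φ₁ φ₃ c₁ c₃ n).1

lemma sig_succ (n : ℕ) :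
    sig hS hS' ψ P Q P' Q' φ₁ φ₃ c₁ c₃ (n + 1) ≫ P'.complex.d (n + 1) n =
      obst hS hS' P Q P' Q' φ₁ φ₃ n (sig hS hS' ψ P Q P' Q' φ₁ φ₃ c₁ c₃ n) := by
  unfold sig
  rw [sigAux]
  exact (nextM_succ hS hS' P Q P' Q' φ₁ φ₃ n _
    (sigAux hS hS' ψ P Q P' Q' φ₁ φ₃ c₁ c₃ n).2).choose_spec.1

/-- the map of middle complexes -/
noncomputable def midMap : midComplex hS P Q ⟶ midComplex hS' P' Q' :=
  ⟨fun n => biprod.desc (φ₁.f n ≫ biprod.inl)
      (sig hS hS' ψ P Q P' Q' φ₁ φ₃ c₁ c₃ n ≫ biprod.inl + φ₃.f n ≫ biprod.inr),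
    fun i j (hij : j + 1 = i) => by
      subst hij
      rw [midComplex_d, midComplex_d]
      apply biprod.hom_ext'
      · simp [dB]
      · simp only [dB, biprod.inr_desc_assoc, Preadditive.add_comp, assoc, biprod.inl_desc,
          biprod.inr_desc, Preadditive.comp_add]
        rw [← assoc (sig hS hS' ψ P Q P' Q' φ₁ φ₃ c₁ c₃ (j + 1)), sig_succ, obst,
          ← assoc (φ₃.f (j + 1)) (Q'.complex.d _ _), φ₃.comm, assoc]
        simp only [Preadditive.sub_comp, Preadditive.add_comp, assoc]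
        abel⟩

/-- the morphism of short complexes of resolutions -/
noncomputable def cxMap : cxSeq hS P Q ⟶ cxSeq hS' P' Q' where
  τ₁ := φ₁
  τ₂ := midMap hS hS' ψ P Q P' Q' φ₁ φ₃ c₁ c₃
  τ₃ := φ₃
  comm₁₂ := HomologicalComplex.hom_ext _ _ fun n => by
    change φ₁.f n ≫ biprod.inl = biprod.inl ≫ biprod.desc _ _
    rw [biprod.inl_desc]
  comm₂₃ := HomologicalComplex.hom_ext _ _ fun n => by
    change biprod.desc _ _ ≫ biprod.snd = biprod.snd ≫ φ₃.f n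
    apply biprod.hom_ext' <;> simp

section
variable [HasProjectiveResolutions C]
variable {D : Type u'} [Category.{v'} D] [Abelian D]
variable (F : C ⥤ D) [F.Additive]

include hS' in
/-- naturality of `δ` in the short exact sequence -/
lemma δ_naturality_seq (n : ℕ) :
    (F.leftDerived (n + 1)).map ψ.τ₃ ≫ δ F hS' n = δ F hS n ≫ (F.leftDerived n).map ψ.τ₁ := by
  let φ₁ : (res S.X₁).complex ⟶ (res S'.X₁).complex := ProjectiveResolution.lift ψ.τ₁ _ _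
  let φ₃ : (res S.X₃).complex ⟶ (res S'.X₃).complex := ProjectiveResolution.lift ψ.τ₃ _ _
  have c₁ : φ₁.f 0 ≫ (res S'.X₁).π.f 0 = (res S.X₁).π.f 0 ≫ ψ.τ₁ :=
    ProjectiveResolution.lift_commutes_zero _ _ _
  have c₃ : φ₃.f 0 ≫ (res S'.X₃).π.f 0 = (res S.X₃).π.f 0 ≫ ψ.τ₃ :=
    ProjectiveResolution.lift_commutes_zero _ _ _
  let Φ : imgSeq F hS ⟶ imgSeq F hS' :=
    (F.mapHomologicalComplex (ComplexShape.down ℕ)).mapShortComplex.map
      (cxMap hS hS' ψ _ _ _ _ φ₁ φ₃ c₁ c₃)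
  have h1 : (F.leftDerived n).map ψ.τ₁ ≫ (e₁ F hS' n).hom =
      (e₁ F hS n).hom ≫ HomologicalComplex.homologyMap Φ.τ₁ n :=
    ProjectiveResolution.isoLeftDerivedObj_hom_naturality ψ.τ₁ (res S.X₁) (res S'.X₁) φ₁ c₁ F n
  have h3 : (F.leftDerived (n + 1)).map ψ.τ₃ ≫ (e₃ F hS' (n + 1)).hom =
      (e₃ F hS (n + 1)).hom ≫ HomologicalComplex.homologyMap Φ.τ₃ (n + 1) :=
    ProjectiveResolution.isoLeftDerivedObj_hom_naturality ψ.τ₃ (res S.X₃) (res S'.X₃) φ₃ c₃ F (n + 1)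
  rw [← cancel_mono (e₁ F hS' n).hom]
  simp only [δ, assoc, Iso.inv_hom_id, comp_id, h1, Iso.inv_hom_id_assoc]
  rw [← assoc, h3, assoc]
  congr 1
  exact (HomologicalComplex.HomologySequence.δ_naturality Φ (imgSeq_shortExact F hS)
    (imgSeq_shortExact F hS') (n + 1) n rfl).symm

variable {F} {G : C ⥤ D} [G.Additive] (α : F ⟶ G)

/-- naturality of `δ` in the functor -/
lemma δ_naturality_functor (n : ℕ) :
    (NatTrans.leftDerived α (n + 1)).app S.X₃ ≫ δ G hS n =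
      δ F hS n ≫ (NatTrans.leftDerived α n).app S.X₁ := by
  let Φ : imgSeq F hS ⟶ imgSeq G hS :=
    { τ₁ := (NatTrans.mapHomologicalComplex α _).app _
      τ₂ := (NatTrans.mapHomologicalComplex α _).app _
      τ₃ := (NatTrans.mapHomologicalComplex α _).app _
      comm₁₂ := ((NatTrans.mapHomologicalComplex α _).naturality _).symm
      comm₂₃ := ((NatTrans.mapHomologicalComplex α _).naturality _).symm }
  have h1 : (NatTrans.leftDerived α n).app S.X₁ ≫ (e₁ G hS n).hom =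
      (e₁ F hS n).hom ≫ HomologicalComplex.homologyMap Φ.τ₁ n := by
    have h := (res S.X₁).leftDerived_app_eq α n =≫ ((res S.X₁).isoLeftDerivedObj G n).hom
    rw [assoc, assoc, Iso.inv_hom_id, comp_id] at h
    exact h
  have h3 : (NatTrans.leftDerived α (n + 1)).app S.X₃ ≫ (e₃ G hS (n + 1)).hom =
      (e₃ F hS (n + 1)).hom ≫ HomologicalComplex.homologyMap Φ.τ₃ (n + 1) := by
    have h := (res S.X₃).leftDerived_app_eq α (n + 1) =≫ ((res S.X₃).isoLeftDerivedObj G (n + 1)).hom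
    rw [assoc, assoc, Iso.inv_hom_id, comp_id] at h
    exact h
  rw [← cancel_mono (e₁ G hS n).hom]
  simp only [δ, assoc, Iso.inv_hom_id, comp_id, h1, Iso.inv_hom_id_assoc]
  rw [← assoc, h3, assoc]
  congr 1
  exact (HomologicalComplex.HomologySequence.δ_naturality Φ (imgSeq_shortExact F hS)
    (imgSeq_shortExact G hS) (n + 1) n rfl).symm

end

end Groth.Calg7.Derived
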