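import Groth.Agent.Calg7.Derived.Tor
import Groth.Agent.Calg7.Derived.LESNatural

/-! `Tor` is balanced, naturally in both variables. -/

set_option autoImplicit false

universe v u v' u'

open CategoryTheory Limits

namespace Groth.Calg7.Derived.Funct

variable {C : Type u} [Category.{v} C] [Abelian C] [HasProjectiveResolutions C]
variable {D : Type u'} [Category.{v'} D] [Abelian D]
variable {F G H F' G' H' : C ⥤ D} [F.Additive] [G.Additive] [H.Additive] [F'.Additive] [G'.Additive]
  [H'.Additive] {α : F ⟶ G} {β : G ⟶ H} {α' : F' ⟶ G'} {β' : G' ⟶ H'}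

/-- naturality of `δ` in the sequence of functors -/
lemma δ_naturality_functor (he : ExactOnProj α β) (he' : ExactOnProj α' β') (a : F ⟶ F')
    (b : G ⟶ G') (c : H ⟶ H') (h₁ : a ≫ α' = α ≫ b) (h₂ : b ≫ β' = β ≫ c) (X : C) (n : ℕ) :
    (NatTrans.leftDerived c (n + 1)).app X ≫ δ he' X n =
      δ he X n ≫ (NatTrans.leftDerived a n).app X := by
  let Φ : cxSeq he X ⟶ cxSeq he' X :=
    { τ₁ := (NatTrans.mapHomologicalComplex a _).app _
      τ₂ := (NatTrans.mapHomologicalComplex b _).app _
      τ₃ := (NatTrans.mapHomologicalComplex c _).app _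
      comm₁₂ := HomologicalComplex.hom_ext _ _ fun i => congr_app h₁ _
      comm₂₃ := HomologicalComplex.hom_ext _ _ fun i => congr_app h₂ _ }
  have h1 : (NatTrans.leftDerived a n).app X ≫ (e₁ he' X n).hom =
      (e₁ he X n).hom ≫ HomologicalComplex.homologyMap Φ.τ₁ n := by
    have h := (res X).leftDerived_app_eq a n =≫ ((res X).isoLeftDerivedObj F' n).hom
    rw [Category.assoc, Category.assoc, Iso.inv_hom_id, Category.comp_id] at h
    exact h
  have h3 : (NatTrans.leftDerived c (n + 1)).app X ≫ (e₃ he' X (n + 1)).hom =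
      (e₃ he X (n + 1)).hom ≫ HomologicalComplex.homologyMap Φ.τ₃ (n + 1) := by
    have h := (res X).leftDerived_app_eq c (n + 1) =≫ ((res X).isoLeftDerivedObj H' (n + 1)).hom
    rw [Category.assoc, Category.assoc, Iso.inv_hom_id, Category.comp_id] at h
    exact h
  rw [← cancel_mono (e₁ he' X n).hom]
  simp only [δ, Category.assoc, Iso.inv_hom_id, Category.comp_id, h1, Iso.inv_hom_id_assoc]
  rw [← Category.assoc, h3, Category.assoc]
  congr 1
  exact (HomologicalComplex.HomologySequence.δ_naturality Φ (cxSeq_shortExact he X)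
    (cxSeq_shortExact he' X) (n + 1) n rfl).symm

end Groth.Calg7.Derived.Funct

namespace Groth.Calg7.Tor

open MonoidalCategory TensorProduct

variable {R : Type u} [CommRing R]

lemma δR_naturality_seq (M : ModuleCat.{u} R) {S S' : ShortComplex (ModuleCat.{u} R)}
    (hS : S.ShortExact) (hS' : S'.ShortExact) (ψ : S ⟶ S') (n : ℕ) :
    mapR (n + 1) M ψ.τ₃ ≫ δR M hS' n = δR M hS n ≫ mapR n M ψ.τ₁ :=
  Derived.δ_naturality_seq hS hS' ψ ((tensoringLeft (ModuleCat.{u} R)).obj M) n

lemma δR_naturality_left {M M' : ModuleCat.{u} R} (f : M ⟶ M') {S : ShortComplex (ModuleCat.{u} R)}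
    (hS : S.ShortExact) (n : ℕ) :
    mapL (n + 1) f S.X₃ ≫ δR M' hS n = δR M hS n ≫ mapL n f S.X₁ :=
  Derived.δ_naturality_functor hS ((tensoringLeft (ModuleCat.{u} R)).map f) n

lemma δL_naturality_seq {S S' : ShortComplex (ModuleCat.{u} R)} (hS : S.ShortExact)
    (hS' : S'.ShortExact) (ψ : S ⟶ S') (N : ModuleCat.{u} R) (n : ℕ) :
    mapL (n + 1) ψ.τ₃ N ≫ δL hS' N n = δL hS N n ≫ mapL n ψ.τ₁ N :=
  Derived.Funct.δ_naturality_functor (exactOnProj hS) (exactOnProj hS') _ _
    ((tensoringLeft (ModuleCat.{u} R)).map ψ.τ₃)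
    (by rw [← Functor.map_comp, ← Functor.map_comp, ψ.comm₁₂] :
      (tensoringLeft (ModuleCat.{u} R)).map ψ.τ₁ ≫ _ = _ ≫ (tensoringLeft (ModuleCat.{u} R)).map ψ.τ₂)
    (by rw [← Functor.map_comp, ← Functor.map_comp, ψ.comm₂₃]) N n

/-- the presentation is functorial -/
noncomputable def presMap {N N' : ModuleCat.{u} R} (f : N ⟶ N') : presentation N ⟶ presentation N' where
  τ₁ := ModuleCat.ofHom (((Finsupp.lmapDomain R R f.hom).domRestrict _).codRestrict _ fun x => by
    rw [LinearMap.mem_ker, LinearMap.domRestrict_apply, Finsupp.lmapDomain_apply,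
      Finsupp.linearCombination_mapDomain]
    have h := congrArg f.hom (LinearMap.mem_ker.1 x.2)
    rw [map_zero, Finsupp.apply_linearCombination] at h
    exact h)
  τ₂ := ModuleCat.ofHom (X := N →₀ R) (Y := N' →₀ R) (Finsupp.lmapDomain R R f.hom)
  τ₃ := f
  comm₁₂ := rfl
  comm₂₃ := ModuleCat.hom_ext (LinearMap.ext fun x => by
    change Finsupp.linearCombination R id (Finsupp.mapDomain f.hom x) =
      f.hom (Finsupp.linearCombination R id x)
    rw [Finsupp.linearCombination_mapDomain, Finsupp.apply_linearCombination]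
    rfl)

/-- naturally balanced in degree `n` -/
structure Bal (R : Type u) [CommRing R] (n : ℕ) where
  /-- the isomorphism -/
  iso : ∀ M N : ModuleCat.{u} R, T n M N ≅ T n N M
  natR : ∀ (M : ModuleCat.{u} R) {N N' : ModuleCat.{u} R} (g : N ⟶ N'),
    mapR n M g ≫ (iso M N').hom = (iso M N).hom ≫ mapL n g M
  natL : ∀ {M M' : ModuleCat.{u} R} (f : M ⟶ M') (N : ModuleCat.{u} R),
    mapL n f N ≫ (iso M' N).hom = (iso M N).hom ≫ mapR n N f

lemma mapR_zeroIso (M : ModuleCat.{u} R) {N N' : ModuleCat.{u} R} (g : N ⟶ N') :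
    mapR 0 M g ≫ (zeroIso M).hom.app N' = (zeroIso M).hom.app N ≫ (M ◁ g) :=
  (zeroIso M).hom.naturality g

/-- degree zero -/
noncomputable def balZero : Bal R 0 where
  iso M N := (zeroIso M).app N ≪≫ β_ M N ≪≫ ((zeroIso N).app M).symm
  natR M N N' g := by
    rw [← cancel_mono ((zeroIso N').hom.app M)]
    simp only [Iso.trans_hom, Iso.symm_hom, Iso.app_hom, Iso.app_inv, Category.assoc,
      Iso.inv_hom_id_app, Category.comp_id, mapL_zeroIso, Iso.inv_hom_id_app_assoc]
    rw [reassoc_of% (mapR_zeroIso M g)]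
    congr 1
    exact BraidedCategory.braiding_naturality_right M g
  natL {M M'} f N := by
    rw [← cancel_mono ((zeroIso N).hom.app M')]
    simp only [Iso.trans_hom, Iso.symm_hom, Iso.app_hom, Iso.app_inv, Category.assoc,
      Iso.inv_hom_id_app, Category.comp_id, mapR_zeroIso, Iso.inv_hom_id_app_assoc]
    rw [reassoc_of% (mapL_zeroIso f N)]
    congr 1
    exact BraidedCategory.braiding_naturality_left f N

instance mono_δR (M N : ModuleCat.{u} R) (n : ℕ) : Mono (δR M (presentation_shortExact N) n) :=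
  (exactR₃ M (presentation_shortExact N) n).mono_g
    ((isZero_of_flat_right M (presentation N).X₂ n).eq_of_src _ _)

instance mono_δL (M N : ModuleCat.{u} R) (n : ℕ) : Mono (δL (presentation_shortExact N) M n) :=
  (exactL₃ (presentation_shortExact N) M n).mono_g
    ((isZero_of_flat_left (M := (presentation N).X₂) M n).eq_of_src _ _)

variable {n : ℕ} (b : Bal R n)

section
variable {S : ShortComplex (ModuleCat.{u} R)} (hS : S.ShortExact)

/-- one step up -/
noncomputable def balSuccHom (M : ModuleCat.{u} R) [Mono (δL hS M n)] :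
    T (n + 1) M S.X₃ ⟶ T (n + 1) S.X₃ M :=
  haveI : Mono (ShortComplex.mk _ _ (δL_mapL_f hS M n)).f := ‹Mono (δL hS M n)›
  (exactL₁ hS M n).lift (δR M hS n ≫ (b.iso M S.X₁).hom) (by
      rw [Category.assoc, ← b.natR, ← Category.assoc, δR_mapR_f, zero_comp])

lemma balSuccHom_δ (M : ModuleCat.{u} R) [Mono (δL hS M n)] :
    balSuccHom b hS M ≫ δL hS M n = δR M hS n ≫ (b.iso M S.X₁).hom :=
  (exactL₁ hS M n).lift_f _ _

/-- one step up, backwards -/
noncomputable def balSuccInv (M : ModuleCat.{u} R) [Mono (δR M hS n)] :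
    T (n + 1) S.X₃ M ⟶ T (n + 1) M S.X₃ :=
  haveI : Mono (ShortComplex.mk _ _ (δR_mapR_f M hS n)).f := ‹Mono (δR M hS n)›
  (exactR₁ M hS n).lift (δL hS M n ≫ (b.iso M S.X₁).inv) (by
      rw [← cancel_mono (b.iso M S.X₂).hom, zero_comp]
      simp only [Category.assoc]
      rw [b.natR, Iso.inv_hom_id_assoc, δL_mapL_f])

lemma balSuccInv_δ (M : ModuleCat.{u} R) [Mono (δR M hS n)] :
    balSuccInv b hS M ≫ δR M hS n = δL hS M n ≫ (b.iso M S.X₁).inv :=
  (exactR₁ M hS n).lift_f _ _

/-- the iso one step up -/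
noncomputable def balSuccIso (M : ModuleCat.{u} R) [Mono (δR M hS n)] [Mono (δL hS M n)] :
    T (n + 1) M S.X₃ ≅ T (n + 1) S.X₃ M where
  hom := balSuccHom b hS M
  inv := balSuccInv b hS M
  hom_inv_id := by
    rw [← cancel_mono (δR M hS n), Category.assoc, balSuccInv_δ, ← Category.assoc, balSuccHom_δ,
      Category.assoc, Iso.hom_inv_id, Category.comp_id, Category.id_comp]
  inv_hom_id := by
    rw [← cancel_mono (δL hS M n), Category.assoc, balSuccHom_δ, ← Category.assoc, balSuccInv_δ,
      Category.assoc, Iso.inv_hom_id, Category.comp_id, Category.id_comp]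

lemma balSucc_natR {S' : ShortComplex (ModuleCat.{u} R)} (hS' : S'.ShortExact) (ψ : S ⟶ S')
    (M : ModuleCat.{u} R) [Mono (δL hS M n)] [Mono (δL hS' M n)] :
    mapR (n + 1) M ψ.τ₃ ≫ balSuccHom b hS' M = balSuccHom b hS M ≫ mapL (n + 1) ψ.τ₃ M := by
  rw [← cancel_mono (δL hS' M n), Category.assoc, balSuccHom_δ, Category.assoc,
    δL_naturality_seq hS hS' ψ, ← Category.assoc, δR_naturality_seq M hS hS' ψ, Category.assoc,
    b.natR, reassoc_of% (balSuccHom_δ b hS M)]

lemma balSucc_natL {M M' : ModuleCat.{u} R} (f : M ⟶ M') [Mono (δL hS M n)] [Mono (δL hS M' n)] :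
    mapL (n + 1) f S.X₃ ≫ balSuccHom b hS M' = balSuccHom b hS M ≫ mapR (n + 1) S.X₃ f := by
  rw [← cancel_mono (δL hS M' n), Category.assoc, balSuccHom_δ, Category.assoc,
    δL_naturality hS f, ← Category.assoc, δR_naturality_left f hS, Category.assoc, b.natL,
    reassoc_of% (balSuccHom_δ b hS M)]

end

/-- one step up -/
noncomputable def balSucc : Bal R (n + 1) where
  iso M N := balSuccIso b (presentation_shortExact N) M
  natR M _ _ g := balSucc_natR b _ _ (presMap g) M
  natL f N := balSucc_natL b (presentation_shortExact N) f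

/-- `Tor` is balanced -/
noncomputable def bal (R : Type u) [CommRing R] : ∀ n, Bal R n
  | 0 => balZero
  | n + 1 => balSucc (bal R n)

/-- `Tor` is naturally symmetric -/
noncomputable def flipIso (R : Type u) [CommRing R] (n : ℕ) :
    CategoryTheory.Tor (ModuleCat.{u} R) n ≅ (CategoryTheory.Tor (ModuleCat.{u} R) n).flip :=
  NatIso.ofComponents (fun M => NatIso.ofComponents (fun N => (bal R n).iso M N)
    (fun g => (bal R n).natR M g))
    (fun f => NatTrans.ext (funext fun N => (bal R n).natL f N))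

end Groth.Calg7.Tor
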