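import Mathlib.CategoryTheory.Abelian.LeftDerived
import Mathlib.Algebra.Homology.HomologySequence
import Mathlib.Algebra.Homology.HomologySequenceLemmas
import Mathlib.Algebra.Homology.HomologicalComplexAbelian

/-! The long exact sequence of left derived functors of a sequence of functors exact on projectives. -/

set_option autoImplicit false

universe v u v' u'

open CategoryTheory Category Limits

namespace Groth.Calg7.Derived.Funct

variable {C : Type u} [Category.{v} C] [Abelian C] [HasProjectiveResolutions C]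
variable {D : Type u'} [Category.{v'} D] [Abelian D]
variable {F G H : C ⥤ D} [F.Additive] [G.Additive] [H.Additive] (α : F ⟶ G) (β : G ⟶ H)

/-- `F → G → H` is short exact on projective objects. -/
structure ExactOnProj : Prop where
  w : ∀ Y, Projective Y → α.app Y ≫ β.app Y = 0
  shortExact : ∀ (Y : C) (hY : Projective Y), (ShortComplex.mk _ _ (w Y hY)).ShortExact

variable {α β} (he : ExactOnProj α β) (X : C)

/-- a chosen resolution -/
noncomputable def res : ProjectiveResolution X :=
  (HasProjectiveResolutions.out (C := C) X).out.some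

/-- the short complex of complexes -/
noncomputable abbrev cxSeq : ShortComplex (ChainComplex D ℕ) :=
  ShortComplex.mk ((NatTrans.mapHomologicalComplex α _).app (res X).complex)
    ((NatTrans.mapHomologicalComplex β _).app (res X).complex)
    (by ext k; exact he.w _ ((res X).projective k))

lemma cxSeq_shortExact : (cxSeq he X).ShortExact :=
  HomologicalComplex.shortExact_of_degreewise_shortExact _ fun k =>
    he.shortExact _ ((res X).projective k)

/-- comparison iso -/
noncomputable def e₁ (n : ℕ) : (F.leftDerived n).obj X ≅ (cxSeq he X).X₁.homology n :=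
  (res X).isoLeftDerivedObj F n

/-- comparison iso -/
noncomputable def e₂ (n : ℕ) : (G.leftDerived n).obj X ≅ (cxSeq he X).X₂.homology n :=
  (res X).isoLeftDerivedObj G n

/-- comparison iso -/
noncomputable def e₃ (n : ℕ) : (H.leftDerived n).obj X ≅ (cxSeq he X).X₃.homology n :=
  (res X).isoLeftDerivedObj H n

lemma app_α (n : ℕ) : (NatTrans.leftDerived α n).app X ≫ (e₂ he X n).hom =
    (e₁ he X n).hom ≫ HomologicalComplex.homologyMap (cxSeq he X).f n := by
  have h := (res X).leftDerived_app_eq α n =≫ ((res X).isoLeftDerivedObj G n).hom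
  rw [assoc, assoc, Iso.inv_hom_id, comp_id] at h
  exact h

lemma app_β (n : ℕ) : (NatTrans.leftDerived β n).app X ≫ (e₃ he X n).hom =
    (e₂ he X n).hom ≫ HomologicalComplex.homologyMap (cxSeq he X).g n := by
  have h := (res X).leftDerived_app_eq β n =≫ ((res X).isoLeftDerivedObj H n).hom
  rw [assoc, assoc, Iso.inv_hom_id, comp_id] at h
  exact h

/-- the connecting map -/
noncomputable def δ (n : ℕ) : (H.leftDerived (n + 1)).obj X ⟶ (F.leftDerived n).obj X :=
  (e₃ he X (n + 1)).hom ≫ (cxSeq_shortExact he X).δ (n + 1) n rfl ≫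
    (e₁ he X n).inv

include he in
lemma app_αβ (n : ℕ) :
    (NatTrans.leftDerived α n).app X ≫ (NatTrans.leftDerived β n).app X = 0 := by
  rw [← cancel_mono (e₃ he X n).hom, zero_comp, assoc, app_β he, ← assoc,
    app_α he, assoc, ← HomologicalComplex.homologyMap_comp, ShortComplex.zero,
    HomologicalComplex.homologyMap_zero, comp_zero]

lemma β_δ (n : ℕ) : (NatTrans.leftDerived β (n + 1)).app X ≫ δ he X n = 0 := by
  rw [δ, ← assoc, app_β he, assoc, ShortComplex.ShortExact.comp_δ_assoc, zero_comp, comp_zero]

lemma δ_α (n : ℕ) : δ he X n ≫ (NatTrans.leftDerived α n).app X = 0 := by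
  rw [← cancel_mono (e₂ he X n).hom, zero_comp, δ, assoc, assoc, assoc, app_α he,
    Iso.inv_hom_id_assoc, ShortComplex.ShortExact.δ_comp, comp_zero]

lemma exact₂ (n : ℕ) : (ShortComplex.mk _ _ (app_αβ he X n)).Exact := by
  refine ShortComplex.exact_of_iso ?_ ((cxSeq_shortExact he X).homology_exact₂ n)
  exact (ShortComplex.isoMk (e₁ he X n) (e₂ he X n)
    (e₃ he X n) (app_α he X n).symm (app_β he X n).symm).symm

lemma exact₃ (n : ℕ) : (ShortComplex.mk _ _ (β_δ he X n)).Exact := by
  refine ShortComplex.exact_of_iso ?_ ((cxSeq_shortExact he X).homology_exact₃ (n + 1) n rfl)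
  exact (ShortComplex.isoMk (e₂ he X (n + 1))
    (e₃ he X (n + 1)) (e₁ he X n) (app_β he X (n + 1)).symm
    (by simp [δ])).symm

lemma exact₁ (n : ℕ) : (ShortComplex.mk _ _ (δ_α he X n)).Exact := by
  refine ShortComplex.exact_of_iso ?_ ((cxSeq_shortExact he X).homology_exact₁ (n + 1) n rfl)
  exact (ShortComplex.isoMk (e₃ he X (n + 1))
    (e₁ he X n) (e₂ he X n) (by simp [δ])
    (app_α he X n).symm).symm

/-- naturality of the connecting map -/
lemma δ_naturality {Y : C} (f : X ⟶ Y) (n : ℕ) :
    (H.leftDerived (n + 1)).map f ≫ δ he Y n = δ he X n ≫ (F.leftDerived n).map f := by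
  let φ : (res X).complex ⟶ (res Y).complex := ProjectiveResolution.lift f (res X) (res Y)
  have hc : φ.f 0 ≫ (res Y).π.f 0 = (res X).π.f 0 ≫ f :=
    ProjectiveResolution.lift_commutes_zero f _ _
  let Φ : cxSeq he X ⟶ cxSeq he Y :=
    { τ₁ := (F.mapHomologicalComplex _).map φ
      τ₂ := (G.mapHomologicalComplex _).map φ
      τ₃ := (H.mapHomologicalComplex _).map φ
      comm₁₂ := (NatTrans.mapHomologicalComplex α _).naturality φ
      comm₂₃ := (NatTrans.mapHomologicalComplex β _).naturality φ }
  have h1 : (F.leftDerived n).map f ≫ (e₁ he Y n).hom =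
      (e₁ he X n).hom ≫ HomologicalComplex.homologyMap Φ.τ₁ n :=
    ProjectiveResolution.isoLeftDerivedObj_hom_naturality f (res X) (res Y) φ hc F n
  have h3 : (H.leftDerived (n + 1)).map f ≫ (e₃ he Y (n + 1)).hom =
      (e₃ he X (n + 1)).hom ≫ HomologicalComplex.homologyMap Φ.τ₃ (n + 1) :=
    ProjectiveResolution.isoLeftDerivedObj_hom_naturality f (res X) (res Y) φ hc H (n + 1)
  rw [← cancel_mono (e₁ he Y n).hom]
  simp only [δ, assoc, Iso.inv_hom_id, comp_id, h1, Iso.inv_hom_id_assoc]
  rw [← assoc, h3, assoc]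
  congr 1
  exact (HomologicalComplex.HomologySequence.δ_naturality Φ (cxSeq_shortExact he X)
    (cxSeq_shortExact he Y) (n + 1) n rfl).symm

/-- `L₀α` is compatible with `L₀F → F`. -/
lemma leftDerived_app_fromLeftDerivedZero (α : F ⟶ G) (X : C) :
    (NatTrans.leftDerived α 0).app X ≫ G.fromLeftDerivedZero.app X =
      F.fromLeftDerivedZero.app X ≫ α.app X := by
  let P : ProjectiveResolution X := res X
  rw [P.fromLeftDerivedZero_eq, P.fromLeftDerivedZero_eq, P.leftDerived_app_eq]
  simp only [assoc, Iso.inv_hom_id_assoc]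
  congr 1
  have h1 : HomologicalComplex.homologyMap
      ((NatTrans.mapHomologicalComplex α (ComplexShape.down ℕ)).app P.complex) 0 ≫
        HomologicalComplex.homologyι _ 0 = HomologicalComplex.homologyι _ 0 ≫
      HomologicalComplex.opcyclesMap
        ((NatTrans.mapHomologicalComplex α (ComplexShape.down ℕ)).app P.complex) 0 :=
    HomologicalComplex.homologyι_naturality _ 0
  have h2 : HomologicalComplex.opcyclesMap
      ((NatTrans.mapHomologicalComplex α (ComplexShape.down ℕ)).app P.complex) 0 ≫
        P.fromLeftDerivedZero' G = P.fromLeftDerivedZero' F ≫ α.app X := by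
    rw [← cancel_epi (HomologicalComplex.pOpcycles _ _), HomologicalComplex.p_opcyclesMap_assoc,
      ProjectiveResolution.pOpcycles_comp_fromLeftDerivedZero',
      ProjectiveResolution.pOpcycles_comp_fromLeftDerivedZero'_assoc]
    exact (α.naturality (P.π.f 0)).symm
  exact ((assoc _ _ _).symm.trans (h1 =≫ P.fromLeftDerivedZero' G)).trans
    ((assoc _ _ _).trans (HomologicalComplex.homologyι _ 0 ≫= h2))

end Groth.Calg7.Derived.Funct
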