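import Mathlib.CategoryTheory.Abelian.LeftDerived
import Mathlib.CategoryTheory.Abelian.Refinements
import Mathlib.Algebra.Homology.HomologySequence
import Mathlib.Algebra.Homology.HomologySequenceLemmas
import Mathlib.Algebra.Homology.HomologicalComplexAbelian

/-! The horseshoe lemma and the long exact sequence of left derived functors. -/

set_option autoImplicit false

universe v u

open CategoryTheory Category Limits

namespace Groth.Calg7.Derived

variable {C : Type u} [Category.{v} C] [Abelian C]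
variable {S : ShortComplex C} (hS : S.ShortExact) (P : ProjectiveResolution S.X₁)
  (Q : ProjectiveResolution S.X₃)

/-- the augmentation of a resolution in degree zero -/
noncomputable def a₀ {Z : C} (R : ProjectiveResolution Z) : R.complex.X 0 ⟶ Z := R.π.f 0

lemma d_a₀ {Z : C} (R : ProjectiveResolution Z) : R.complex.d 1 0 ≫ a₀ R = 0 :=
  R.complex_d_comp_π_f_zero

lemma a₀_exact {Z : C} (R : ProjectiveResolution Z) : (ShortComplex.mk _ _ (d_a₀ R)).Exact :=
  R.exact₀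

instance {Z : C} (R : ProjectiveResolution Z) : Epi (a₀ R) :=
  inferInstanceAs (Epi (R.π.f 0))

/-- lift of the augmentation of `Q` to `S.X₂` -/
noncomputable def lam : Q.complex.X 0 ⟶ S.X₂ :=
  @Projective.factorThru _ _ _ _ _ _ (a₀ Q) S.g hS.epi_g

lemma lam_g : lam hS Q ≫ S.g = a₀ Q :=
  @Projective.factorThru_comp _ _ _ _ _ _ (a₀ Q) S.g hS.epi_g

/-- the predicate that allows the next twisting map to be chosen -/
def Next (n : ℕ) (τ : Q.complex.X (n + 1) ⟶ P.complex.X n) : Prop :=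
  ∃ τ' : Q.complex.X (n + 2) ⟶ P.complex.X (n + 1),
    τ' ≫ P.complex.d (n + 1) n + Q.complex.d (n + 2) (n + 1) ≫ τ = 0

lemma next_zero : ∃ τ : Q.complex.X 1 ⟶ P.complex.X 0,
    τ ≫ a₀ P ≫ S.f + Q.complex.d 1 0 ≫ lam hS Q = 0 ∧ Next P Q 0 τ := by
  haveI := hS.mono_f
  have h : (-(Q.complex.d 1 0 ≫ lam hS Q)) ≫ S.g = 0 := by
    rw [Preadditive.neg_comp, assoc, lam_g, d_a₀ Q, neg_zero]
  let t : Q.complex.X 1 ⟶ S.X₁ := hS.exact.lift _ h
  have ht : t ≫ S.f = -(Q.complex.d 1 0 ≫ lam hS Q) := hS.exact.lift_f _ h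
  let τ : Q.complex.X 1 ⟶ P.complex.X 0 := Projective.factorThru t (a₀ P)
  have hτ : τ ≫ a₀ P = t := Projective.factorThru_comp _ _
  refine ⟨τ, by rw [← assoc, hτ, ht, neg_add_cancel], ?_⟩
  have hk : (-(Q.complex.d 2 1 ≫ τ)) ≫ a₀ P = 0 := by
    rw [← cancel_mono S.f, zero_comp, assoc, Preadditive.neg_comp, assoc, ← assoc τ, hτ, ht,
      Preadditive.comp_neg, neg_neg, HomologicalComplex.d_comp_d_assoc, zero_comp]
  obtain ⟨τ', hτ'⟩ : ∃ τ' : Q.complex.X 2 ⟶ P.complex.X 1, τ' ≫ P.complex.d 1 0 = -(Q.complex.d 2 1 ≫ τ) :=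
    ⟨(a₀_exact P).liftFromProjective _ hk, (a₀_exact P).liftFromProjective_comp _ hk⟩
  exact ⟨τ', by rw [hτ', neg_add_cancel]⟩

lemma next_succ (n : ℕ) (τ : Q.complex.X (n + 1) ⟶ P.complex.X n) (h : Next P Q n τ) :
    ∃ τ' : Q.complex.X (n + 2) ⟶ P.complex.X (n + 1),
      τ' ≫ P.complex.d (n + 1) n + Q.complex.d (n + 2) (n + 1) ≫ τ = 0 ∧ Next P Q (n + 1) τ' := by
  obtain ⟨τ', h'⟩ := h
  have e : τ' ≫ P.complex.d (n + 1) n = -(Q.complex.d (n + 2) (n + 1) ≫ τ) := eq_neg_of_add_eq_zero_left h'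
  have hk : (-(Q.complex.d (n + 3) (n + 2) ≫ τ')) ≫ P.complex.d (n + 1) n = 0 := by
    rw [Preadditive.neg_comp, assoc, e, Preadditive.comp_neg, neg_neg,
      HomologicalComplex.d_comp_d_assoc, zero_comp]
  obtain ⟨τ'', hτ''⟩ : ∃ τ'' : Q.complex.X (n + 3) ⟶ P.complex.X (n + 2),
      τ'' ≫ P.complex.d (n + 2) (n + 1) = -(Q.complex.d (n + 3) (n + 2) ≫ τ') :=
    ⟨(P.exact_succ n).liftFromProjective _ hk, (P.exact_succ n).liftFromProjective_comp _ hk⟩
  exact ⟨τ', h', τ'', by rw [hτ'', neg_add_cancel]⟩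

/-- the twisting maps -/
noncomputable def tauAux : ∀ n, {τ : Q.complex.X (n + 1) ⟶ P.complex.X n // Next P Q n τ}
  | 0 => ⟨(next_zero hS P Q).choose, (next_zero hS P Q).choose_spec.2⟩
  | n + 1 => ⟨(next_succ P Q n _ (tauAux n).2).choose, (next_succ P Q n _ (tauAux n).2).choose_spec.2⟩

/-- the twisting maps -/
noncomputable def tau (n : ℕ) : Q.complex.X (n + 1) ⟶ P.complex.X n := (tauAux hS P Q n).1

lemma tau_zero : tau hS P Q 0 ≫ a₀ P ≫ S.f + Q.complex.d 1 0 ≫ lam hS Q = 0 := by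
  unfold tau tauAux
  exact (next_zero hS P Q).choose_spec.1

lemma tau_succ (n : ℕ) :
    tau hS P Q (n + 1) ≫ P.complex.d (n + 1) n + Q.complex.d (n + 2) (n + 1) ≫ tau hS P Q n = 0 := by
  unfold tau
  rw [tauAux]
  exact (next_succ P Q n _ (tauAux hS P Q n).2).choose_spec.1

/-- differential of the middle complex -/
noncomputable def dB (n : ℕ) :
    P.complex.X (n + 1) ⊞ Q.complex.X (n + 1) ⟶ P.complex.X n ⊞ Q.complex.X n :=
  biprod.desc (P.complex.d (n + 1) n ≫ biprod.inl)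
    (tau hS P Q n ≫ biprod.inl + Q.complex.d (n + 1) n ≫ biprod.inr)

lemma dB_sq (n : ℕ) : dB hS P Q (n + 1) ≫ dB hS P Q n = 0 := by
  apply biprod.hom_ext'
  · simp [dB]
  · simp only [dB, biprod.inr_desc_assoc, Preadditive.add_comp, assoc, biprod.inl_desc,
      biprod.inr_desc, Preadditive.comp_add, HomologicalComplex.d_comp_d_assoc, zero_comp,
      add_zero, comp_zero]
    rw [← assoc (tau hS P Q (n + 1)), ← assoc (Q.complex.d _ _) (tau hS P Q n), ← Preadditive.add_comp,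
      tau_succ, zero_comp]

/-- the middle complex -/
noncomputable abbrev midComplex : ChainComplex C ℕ :=
  ChainComplex.of (fun n => P.complex.X n ⊞ Q.complex.X n) (dB hS P Q) (dB_sq hS P Q)

lemma midComplex_d (n : ℕ) : (midComplex hS P Q).d (n + 1) n = dB hS P Q n :=
  ChainComplex.of_d (fun n => P.complex.X n ⊞ Q.complex.X n) _ _

/-- inclusion -/
noncomputable def incl : P.complex ⟶ midComplex hS P Q :=
  ⟨fun n => biprod.inl, fun i j (hij : j + 1 = i) => by
    subst hij; rw [midComplex_d]; simp [dB]⟩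

/-- projection -/
noncomputable def proj : midComplex hS P Q ⟶ Q.complex :=
  ⟨fun n => biprod.snd, fun i j (hij : j + 1 = i) => by
    subst hij; rw [midComplex_d]; apply biprod.hom_ext' <;> simp [dB]⟩

/-- the augmentation in degree zero -/
noncomputable def aug₀ : P.complex.X 0 ⊞ Q.complex.X 0 ⟶ S.X₂ :=
  biprod.desc (a₀ P ≫ S.f) (lam hS Q)

lemma dB_aug₀ : dB hS P Q 0 ≫ aug₀ hS P Q = 0 := by
  apply biprod.hom_ext'
  · simp only [dB, aug₀, biprod.inl_desc_assoc, assoc, biprod.inl_desc, comp_zero]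
    exact (assoc _ _ _).symm.trans ((d_a₀ P =≫ S.f).trans zero_comp)
  · simp only [dB, aug₀, biprod.inr_desc_assoc, Preadditive.add_comp, assoc, biprod.inl_desc,
      biprod.inr_desc, comp_zero]
    exact tau_zero hS P Q

/-- the short complex of the three resolutions -/
noncomputable abbrev cxSeq : ShortComplex (ChainComplex C ℕ) :=
  ShortComplex.mk (incl hS P Q) (proj hS P Q) (by
    ext n; simp [incl, proj])

/-- its degreewise splitting -/
noncomputable def splitting (n : ℕ) :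
    ((cxSeq hS P Q).map (HomologicalComplex.eval C _ n)).Splitting :=
  ShortComplex.Splitting.ofHasBinaryBiproduct (P.complex.X n) (Q.complex.X n)

lemma cxSeq_shortExact : (cxSeq hS P Q).ShortExact :=
  HomologicalComplex.shortExact_of_degreewise_shortExact _ fun n => (splitting hS P Q n).shortExact

/-- the augmentation -/
noncomputable def aug : midComplex hS P Q ⟶ (ChainComplex.single₀ C).obj S.X₂ :=
  ((midComplex hS P Q).toSingle₀Equiv S.X₂).symm ⟨aug₀ hS P Q, by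
    rw [midComplex_d]; exact dB_aug₀ hS P Q⟩

lemma aug_f_zero : (aug hS P Q).f 0 = aug₀ hS P Q :=
  ChainComplex.toSingle₀Equiv_symm_apply_f_zero _ _

instance epi_aug₀ : Epi (aug₀ hS P Q) := by
  haveI := hS.mono_f
  rw [Preadditive.epi_iff_cancel_zero]
  intro W h hh
  have h1 : a₀ P ≫ S.f ≫ h = 0 := by
    simpa [aug₀] using (biprod.inl : P.complex.X 0 ⟶ P.complex.X 0 ⊞ Q.complex.X 0) ≫= hh
  have h2 : lam hS Q ≫ h = 0 := by
    simpa [aug₀] using (biprod.inr : Q.complex.X 0 ⟶ P.complex.X 0 ⊞ Q.complex.X 0) ≫= hh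
  have h3 : S.f ≫ h = 0 := by rw [← cancel_epi (a₀ P)]; exact h1.trans comp_zero.symm
  haveI := hS.epi_g
  obtain ⟨h', rfl⟩ : ∃ h' : S.X₃ ⟶ W, S.g ≫ h' = h := ⟨hS.exact.desc h h3, hS.exact.g_desc _ _⟩
  rw [← assoc, lam_g] at h2
  rw [(cancel_epi (a₀ Q)).1 (h2.trans comp_zero.symm), comp_zero]

lemma aug₀_g : aug₀ hS P Q ≫ S.g = biprod.snd ≫ a₀ Q := by
  apply biprod.hom_ext'
  · simp [aug₀]
  · simp only [aug₀, biprod.inr_desc_assoc, lam_g, biprod.inr_snd_assoc]

lemma exact_aug₀ : (ShortComplex.mk _ _ (dB_aug₀ hS P Q)).Exact := by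
  haveI := hS.mono_f
  rw [ShortComplex.exact_iff_exact_up_to_refinements]
  intro T (x : T ⟶ P.complex.X 0 ⊞ Q.complex.X 0) (hx : x ≫ aug₀ hS P Q = 0)
  have hq : (x ≫ biprod.snd) ≫ a₀ Q = 0 := by
    rw [assoc, ← aug₀_g hS P Q, ← assoc, hx, zero_comp]
  obtain ⟨T₁, π₁, hπ₁, z, hz⟩ := (a₀_exact Q).exact_up_to_refinements _ hq
  let y : T₁ ⟶ P.complex.X 0 ⊞ Q.complex.X 0 := π₁ ≫ x - (z ≫ biprod.inr) ≫ dB hS P Q 0
  let w : T₁ ⟶ P.complex.X 0 := y ≫ biprod.fst
  have hys : y ≫ biprod.snd = 0 := by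
    simp only [y, dB, Preadditive.sub_comp, assoc, biprod.inr_desc_assoc, Preadditive.add_comp,
      biprod.inl_snd, comp_zero, zero_add, biprod.inr_snd, comp_id]
    exact sub_eq_zero.2 hz
  have hyw : y = w ≫ biprod.inl := by
    apply biprod.hom_ext <;> simp [w, hys]
  have hy : y ≫ aug₀ hS P Q = 0 := by
    simp only [y, Preadditive.sub_comp, assoc, hx, comp_zero, dB_aug₀, sub_self]
  have hw : w ≫ a₀ P = 0 := by
    rw [← cancel_mono S.f, zero_comp, assoc]
    rw [hyw] at hy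
    simpa [aug₀] using hy
  obtain ⟨T₂, π₂, hπ₂, v, hv⟩ := (a₀_exact P).exact_up_to_refinements w hw
  refine ⟨T₂, π₂ ≫ π₁, inferInstance, π₂ ≫ z ≫ biprod.inr + v ≫ biprod.inl, ?_⟩
  have e : π₂ ≫ π₁ ≫ x = π₂ ≫ (w ≫ biprod.inl + (z ≫ biprod.inr) ≫ dB hS P Q 0) := by
    rw [← hyw, sub_add_cancel]
  change (π₂ ≫ π₁) ≫ x = _ ≫ dB hS P Q 0
  rw [assoc, e, Preadditive.add_comp, Preadditive.comp_add, add_comm]
  congr 1
  · simp only [assoc]
  · rw [← assoc, hv, assoc, assoc]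
    simp [dB]

lemma mid_exactAt_succ (n : ℕ) : (midComplex hS P Q).ExactAt (n + 1) :=
  (cxSeq_shortExact hS P Q).exactAt_X₂ (n + 1) (P.complex_exactAt_succ n) (Q.complex_exactAt_succ n)

lemma quasiIso_aug : QuasiIso (aug hS P Q) := by
  refine ⟨fun n => ?_⟩
  cases n with
  | zero =>
    rw [ChainComplex.quasiIsoAt₀_iff, ShortComplex.quasiIso_iff_of_zeros']
    · refine ⟨?_, ?_⟩
      · refine ShortComplex.exact_of_iso ?_ (exact_aug₀ hS P Q)
        refine ShortComplex.isoMk (Iso.refl _) (Iso.refl _) (Iso.refl _) ?_ ?_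
        · exact (id_comp _).trans ((midComplex_d hS P Q 0).trans (comp_id _).symm)
        · exact (id_comp _).trans ((aug_f_zero hS P Q).trans (comp_id _).symm)
      · change Epi ((aug hS P Q).f 0)
        exact (aug_f_zero hS P Q).symm ▸ (inferInstance : Epi (aug₀ hS P Q))
    · exact (midComplex hS P Q).shape 0 0 (by simp)
    · rfl
    · rfl
  | succ n =>
    rw [quasiIsoAt_iff_exactAt' _ (n + 1) (ChainComplex.exactAt_succ_single_obj _ _)]
    exact mid_exactAt_succ hS P Q n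

/-- The horseshoe resolution of the middle term. -/
noncomputable abbrev mid : ProjectiveResolution S.X₂ where
  complex := midComplex hS P Q
  projective n := inferInstanceAs (Projective (P.complex.X n ⊞ Q.complex.X n))
  π := aug hS P Q
  quasiIso := quasiIso_aug hS P Q

lemma incl_comm : (incl hS P Q).f 0 ≫ (mid hS P Q).π.f 0 = a₀ P ≫ S.f := by
  change biprod.inl ≫ (aug hS P Q).f 0 = _
  rw [aug_f_zero]
  exact biprod.inl_desc _ _

lemma proj_comm : (proj hS P Q).f 0 ≫ a₀ Q = (mid hS P Q).π.f 0 ≫ S.g := by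
  change biprod.snd ≫ _ = (aug hS P Q).f 0 ≫ S.g
  rw [aug_f_zero]
  exact (aug₀_g hS P Q).symm

end Groth.Calg7.Derived
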