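import Groth.Agent.Calg7.Derived.Horseshoe

/-! The long exact sequence of the left derived functors of an additive functor. -/

set_option autoImplicit false

universe v u v' u'

open CategoryTheory Category Limits

namespace Groth.Calg7.Derived

variable {C : Type u} [Category.{v} C] [Abelian C] [HasProjectiveResolutions C]
variable {D : Type u'} [Category.{v'} D] [Abelian D]
variable (F : C ⥤ D) [F.Additive] {S : ShortComplex C} (hS : S.ShortExact)

/-- a chosen resolution -/
noncomputable def res (X : C) : ProjectiveResolution X :=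
  (HasProjectiveResolutions.out (C := C) X).out.some

/-- the image under `F` of the short exact sequence of resolutions -/
noncomputable abbrev imgSeq : ShortComplex (ChainComplex D ℕ) :=
  (cxSeq hS (res S.X₁) (res S.X₃)).map (F.mapHomologicalComplex _)

lemma imgSeq_shortExact : (imgSeq F hS).ShortExact :=
  HomologicalComplex.shortExact_of_degreewise_shortExact _ fun n =>
    ((splitting hS (res S.X₁) (res S.X₃) n).map F).shortExact

/-- comparison in the first spot -/
noncomputable def e₁ (n : ℕ) : (F.leftDerived n).obj S.X₁ ≅ (imgSeq F hS).X₁.homology n :=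
  (res S.X₁).isoLeftDerivedObj F n

/-- comparison in the middle spot -/
noncomputable def e₂ (n : ℕ) : (F.leftDerived n).obj S.X₂ ≅ (imgSeq F hS).X₂.homology n :=
  (mid hS (res S.X₁) (res S.X₃)).isoLeftDerivedObj F n

/-- comparison in the last spot -/
noncomputable def e₃ (n : ℕ) : (F.leftDerived n).obj S.X₃ ≅ (imgSeq F hS).X₃.homology n :=
  (res S.X₃).isoLeftDerivedObj F n

lemma map_f_e₂ (n : ℕ) : (F.leftDerived n).map S.f ≫ (e₂ F hS n).hom =
    (e₁ F hS n).hom ≫ HomologicalComplex.homologyMap (imgSeq F hS).f n :=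
  ProjectiveResolution.isoLeftDerivedObj_hom_naturality S.f (res S.X₁) (mid hS (res S.X₁) (res S.X₃))
    _ (incl_comm hS _ _) F n

lemma map_g_e₃ (n : ℕ) : (F.leftDerived n).map S.g ≫ (e₃ F hS n).hom =
    (e₂ F hS n).hom ≫ HomologicalComplex.homologyMap (imgSeq F hS).g n :=
  ProjectiveResolution.isoLeftDerivedObj_hom_naturality S.g (mid hS (res S.X₁) (res S.X₃)) (res S.X₃)
    _ (proj_comm hS _ _) F n

/-- the connecting map -/
noncomputable def δ (n : ℕ) : (F.leftDerived (n + 1)).obj S.X₃ ⟶ (F.leftDerived n).obj S.X₁ :=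
  (e₃ F hS (n + 1)).hom ≫ (imgSeq_shortExact F hS).δ (n + 1) n rfl ≫ (e₁ F hS n).inv

include hS in
lemma map_f_g (n : ℕ) : (F.leftDerived n).map S.f ≫ (F.leftDerived n).map S.g = 0 := by
  rw [← Functor.map_comp, S.zero, ← cancel_mono (e₃ F hS n).hom, zero_comp,
    show (0 : S.X₁ ⟶ S.X₃) = S.f ≫ S.g from S.zero.symm, Functor.map_comp, assoc, map_g_e₃,
    ← assoc, map_f_e₂, assoc, ← HomologicalComplex.homologyMap_comp, ShortComplex.zero,
    HomologicalComplex.homologyMap_zero, comp_zero]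

lemma map_g_δ (n : ℕ) : (F.leftDerived (n + 1)).map S.g ≫ δ F hS n = 0 := by
  rw [δ, ← assoc, map_g_e₃, assoc, ShortComplex.ShortExact.comp_δ_assoc, zero_comp, comp_zero]

lemma δ_map_f (n : ℕ) : δ F hS n ≫ (F.leftDerived n).map S.f = 0 := by
  rw [← cancel_mono (e₂ F hS n).hom, zero_comp, δ, assoc, assoc, assoc, map_f_e₂,
    Iso.inv_hom_id_assoc, ShortComplex.ShortExact.δ_comp, comp_zero]

/-- exactness at the middle term -/
lemma exact₂ (n : ℕ) : (ShortComplex.mk _ _ (map_f_g F hS n)).Exact := by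
  refine ShortComplex.exact_of_iso ?_ ((imgSeq_shortExact F hS).homology_exact₂ n)
  exact (ShortComplex.isoMk (e₁ F hS n) (e₂ F hS n) (e₃ F hS n) (map_f_e₂ F hS n).symm
    (map_g_e₃ F hS n).symm).symm

/-- exactness at the last term -/
lemma exact₃ (n : ℕ) : (ShortComplex.mk _ _ (map_g_δ F hS n)).Exact := by
  refine ShortComplex.exact_of_iso ?_ ((imgSeq_shortExact F hS).homology_exact₃ (n + 1) n rfl)
  exact (ShortComplex.isoMk (e₂ F hS (n + 1)) (e₃ F hS (n + 1)) (e₁ F hS n)
    (map_g_e₃ F hS (n + 1)).symm (by simp [δ])).symm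

/-- exactness at the first term -/
lemma exact₁ (n : ℕ) : (ShortComplex.mk _ _ (δ_map_f F hS n)).Exact := by
  refine ShortComplex.exact_of_iso ?_ ((imgSeq_shortExact F hS).homology_exact₁ (n + 1) n rfl)
  exact (ShortComplex.isoMk (e₃ F hS (n + 1)) (e₁ F hS n) (e₂ F hS n) (by simp [δ])
    (map_f_e₂ F hS n).symm).symm

include hS in
lemma isZero_X₁ (n : ℕ) (h₃ : IsZero ((F.leftDerived (n + 1)).obj S.X₃))
    (h₂ : IsZero ((F.leftDerived n).obj S.X₂)) : IsZero ((F.leftDerived n).obj S.X₁) :=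
  (exact₁ F hS n).isZero_of_both_zeros (h₃.eq_of_src _ _) (h₂.eq_of_tgt _ _)

include hS in
lemma isZero_X₂ (n : ℕ) (h₁ : IsZero ((F.leftDerived n).obj S.X₁))
    (h₃ : IsZero ((F.leftDerived n).obj S.X₃)) : IsZero ((F.leftDerived n).obj S.X₂) :=
  (exact₂ F hS n).isZero_of_both_zeros (h₁.eq_of_src _ _) (h₃.eq_of_tgt _ _)

include hS in
lemma isZero_X₃ (n : ℕ) (h₂ : IsZero ((F.leftDerived (n + 1)).obj S.X₂))
    (h₁ : IsZero ((F.leftDerived n).obj S.X₁)) : IsZero ((F.leftDerived (n + 1)).obj S.X₃) :=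
  (exact₃ F hS n).isZero_of_both_zeros (h₂.eq_of_src _ _) (h₁.eq_of_tgt _ _)

include hS in
/-- `L₀F` is right exact. -/
lemma epi_map_g_zero : Epi ((F.leftDerived 0).map S.g) := by
  have h := (imgSeq_shortExact F hS)
  haveI : Epi (imgSeq F hS).g := h.epi_g
  haveI : Epi (HomologicalComplex.homologyMap (imgSeq F hS).g 0) := by
    haveI : Epi ((imgSeq F hS).g.f 0) := (h.map_of_exact (HomologicalComplex.eval D _ 0)).epi_g
    exact HomologicalComplex.epi_homologyMap_of_epi_of_not_rel _ 0 (by simp)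
  have e : (F.leftDerived 0).map S.g =
      (e₂ F hS 0).hom ≫ HomologicalComplex.homologyMap (imgSeq F hS).g 0 ≫ (e₃ F hS 0).inv := by
    rw [← assoc, ← map_g_e₃, assoc, Iso.hom_inv_id, comp_id]
  rw [e]
  infer_instance

end Groth.Calg7.Derived
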