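import Mathlib.CategoryTheory.Monoidal.Tor
import Mathlib.RingTheory.Flat.CategoryTheory
import Mathlib.Algebra.Category.ModuleCat.Monoidal.Closed
import Mathlib.Algebra.Category.ModuleCat.Projective
import Mathlib.Algebra.Category.ModuleCat.Abelian
import Mathlib.RingTheory.Flat.Basic
import Groth.Agent.Calg7.Derived.LES
import Groth.Agent.Calg7.Derived.FunctorLES

/-!
`Tor` of modules: both long exact sequences, degree zero, vanishing on flat modules
in either variable.
-/

set_option autoImplicit false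

universe u

open CategoryTheory MonoidalCategory Limits TensorProduct

namespace Groth.Calg7.Tor

variable {R : Type u} [CommRing R]

/-- `Torₙ(M, N)` -/
noncomputable abbrev T (n : ℕ) (M N : ModuleCat.{u} R) : ModuleCat.{u} R :=
  ((CategoryTheory.Tor (ModuleCat.{u} R) n).obj M).obj N

/-- `Torₙ(M, f)` -/
noncomputable abbrev mapR (n : ℕ) (M : ModuleCat.{u} R) {N N' : ModuleCat.{u} R} (f : N ⟶ N') :
    T n M N ⟶ T n M N' :=
  ((CategoryTheory.Tor (ModuleCat.{u} R) n).obj M).map f

/-- `Torₙ(f, N)` -/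
noncomputable abbrev mapL (n : ℕ) {M M' : ModuleCat.{u} R} (f : M ⟶ M') (N : ModuleCat.{u} R) :
    T n M N ⟶ T n M' N :=
  ((CategoryTheory.Tor (ModuleCat.{u} R) n).map f).app N

/-- `Tor₀(M, -) ≅ M ⊗ -` -/
noncomputable def zeroIso (M : ModuleCat.{u} R) :
    (CategoryTheory.Tor (ModuleCat.{u} R) 0).obj M ≅ (tensoringLeft (ModuleCat.{u} R)).obj M :=
  haveI : PreservesFiniteColimits ((tensoringLeft (ModuleCat.{u} R)).obj M) :=
    inferInstanceAs (PreservesFiniteColimits (tensorLeft M))
  Functor.leftDerivedZeroIsoSelf _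

variable (M : ModuleCat.{u} R) {S : ShortComplex (ModuleCat.{u} R)} (hS : S.ShortExact)

/-- connecting map in the second variable -/
noncomputable def δR (n : ℕ) : T (n + 1) M S.X₃ ⟶ T n M S.X₁ :=
  Derived.δ ((tensoringLeft (ModuleCat.{u} R)).obj M) hS n

include hS in
lemma mapR_f_g (n : ℕ) : mapR n M S.f ≫ mapR n M S.g = 0 := Derived.map_f_g _ hS n

lemma mapR_g_δR (n : ℕ) : mapR (n + 1) M S.g ≫ δR M hS n = 0 := Derived.map_g_δ _ hS n

lemma δR_mapR_f (n : ℕ) : δR M hS n ≫ mapR n M S.f = 0 := Derived.δ_map_f _ hS n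

lemma exactR₂ (n : ℕ) : (ShortComplex.mk _ _ (mapR_f_g M hS n)).Exact := Derived.exact₂ _ hS n

lemma exactR₃ (n : ℕ) : (ShortComplex.mk _ _ (mapR_g_δR M hS n)).Exact := Derived.exact₃ _ hS n

lemma exactR₁ (n : ℕ) : (ShortComplex.mk _ _ (δR_mapR_f M hS n)).Exact := Derived.exact₁ _ hS n

include hS in
lemma isZero_R₁ (n : ℕ) (h₃ : IsZero (T (n + 1) M S.X₃)) (h₂ : IsZero (T n M S.X₂)) :
    IsZero (T n M S.X₁) :=
  Derived.isZero_X₁ _ hS n h₃ h₂

include hS in
lemma isZero_R₂ (n : ℕ) (h₁ : IsZero (T n M S.X₁)) (h₃ : IsZero (T n M S.X₃)) :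
    IsZero (T n M S.X₂) :=
  Derived.isZero_X₂ _ hS n h₁ h₃

include hS in
lemma isZero_R₃ (n : ℕ) (h₂ : IsZero (T (n + 1) M S.X₂)) (h₁ : IsZero (T n M S.X₁)) :
    IsZero (T (n + 1) M S.X₃) :=
  Derived.isZero_X₃ _ hS n h₂ h₁

/-- `Tor(-, N)` long exact sequence datum -/
lemma exactOnProj (hS : S.ShortExact) :
    Derived.Funct.ExactOnProj ((tensoringLeft (ModuleCat.{u} R)).map S.f)
      ((tensoringLeft (ModuleCat.{u} R)).map S.g) := by
  have w : ∀ Y : ModuleCat.{u} R, (S.f ▷ Y) ≫ (S.g ▷ Y) = 0 := fun Y => by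
    rw [← comp_whiskerRight, S.zero, MonoidalPreadditive.zero_whiskerRight]
  refine ⟨fun Y _ => w Y, fun Y hY => ?_⟩
  have : Module.Projective R Y := ModuleCat.projective_of_module_projective Y
  have : Module.Flat R Y := Module.Flat.of_projective
  have : PreservesFiniteColimits (tensorRight Y) :=
    preservesFiniteColimits_of_natIso (BraidedCategory.tensorLeftIsoTensorRight Y)
  exact hS.map_of_exact (tensorRight Y)

/-- connecting map in the first variable -/
noncomputable def δL (N : ModuleCat.{u} R) (n : ℕ) : T (n + 1) S.X₃ N ⟶ T n S.X₁ N :=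
  Derived.Funct.δ (exactOnProj hS) N n

include hS in
lemma mapL_f_g (N : ModuleCat.{u} R) (n : ℕ) : mapL n S.f N ≫ mapL n S.g N = 0 :=
  Derived.Funct.app_αβ (exactOnProj hS) N n

lemma mapL_g_δL (N : ModuleCat.{u} R) (n : ℕ) : mapL (n + 1) S.g N ≫ δL hS N n = 0 :=
  Derived.Funct.β_δ (exactOnProj hS) N n

lemma δL_mapL_f (N : ModuleCat.{u} R) (n : ℕ) : δL hS N n ≫ mapL n S.f N = 0 :=
  Derived.Funct.δ_α (exactOnProj hS) N n

lemma exactL₂ (N : ModuleCat.{u} R) (n : ℕ) : (ShortComplex.mk _ _ (mapL_f_g hS N n)).Exact :=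
  Derived.Funct.exact₂ (exactOnProj hS) N n

lemma exactL₃ (N : ModuleCat.{u} R) (n : ℕ) : (ShortComplex.mk _ _ (mapL_g_δL hS N n)).Exact :=
  Derived.Funct.exact₃ (exactOnProj hS) N n

lemma exactL₁ (N : ModuleCat.{u} R) (n : ℕ) : (ShortComplex.mk _ _ (δL_mapL_f hS N n)).Exact :=
  Derived.Funct.exact₁ (exactOnProj hS) N n

lemma mono_tor_zero_map {N N' : ModuleCat.{u} R} (f : N ⟶ N')
    (h : Function.Injective (f.hom.lTensor M)) : Mono (mapR 0 M f) := by
  have : Mono (((tensoringLeft (ModuleCat.{u} R)).obj M).map f) :=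
    (ModuleCat.mono_iff_injective _).2 h
  have e : mapR 0 M f = (zeroIso M).hom.app N ≫ ((tensoringLeft (ModuleCat.{u} R)).obj M).map f ≫
      (zeroIso M).inv.app N' := (NatIso.naturality_2 (zeroIso M) f).symm
  rw [e]
  infer_instance

lemma injective_of_mono_tor_zero_map {N N' : ModuleCat.{u} R} (f : N ⟶ N') [Mono (mapR 0 M f)] :
    Function.Injective (f.hom.lTensor M) := by
  have : Mono ((zeroIso M).inv.app N ≫ mapR 0 M f ≫ (zeroIso M).hom.app N') := inferInstance
  rw [NatIso.naturality_1 (zeroIso M) f] at this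
  exact (ModuleCat.mono_iff_injective _).1 this

/-- the standard free presentation of a module -/
noncomputable abbrev presentation (M : ModuleCat.{u} R) : ShortComplex (ModuleCat.{u} R) :=
  ShortComplex.mk
    (ModuleCat.ofHom (X := ↥(LinearMap.ker (Finsupp.linearCombination R (id : M → M))))
      (Y := M →₀ R) (Submodule.subtype _))
    (ModuleCat.ofHom (X := M →₀ R) (Y := M) (Finsupp.linearCombination R (id : M → M)))
    (by ext x; exact x.2)

lemma presentation_shortExact (M : ModuleCat.{u} R) : (presentation M).ShortExact where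
  exact := (ShortComplex.ShortExact.moduleCat_exact_iff_function_exact _).2
    (LinearMap.exact_subtype_ker_map _)
  mono_f := (ModuleCat.mono_iff_injective _).2 Subtype.val_injective
  epi_g := (ModuleCat.epi_iff_surjective _).2 fun q => ⟨Finsupp.single q 1, by simp⟩

instance flat_presentation (M : ModuleCat.{u} R) : Module.Flat R (presentation M).X₂ :=
  inferInstanceAs (Module.Flat R (M →₀ R))

variable {M} in
/-- `Tor` vanishes in positive degree when the first variable is flat. -/
theorem isZero_of_flat_left [Module.Flat R M] (N : ModuleCat.{u} R) (n : ℕ) :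
    IsZero (T (n + 1) M N) := by
  obtain ⟨P⟩ := (inferInstance : HasProjectiveResolution N).out
  refine IsZero.of_iso ?_ (P.isoLeftDerivedObj ((tensoringLeft (ModuleCat.{u} R)).obj M) (n + 1))
  refine (HomologicalComplex.exactAt_iff_isZero_homology _ _).mp ?_
  rw [HomologicalComplex.exactAt_iff]
  exact Module.Flat.lTensor_shortComplex_exact M (P.complex.sc (n + 1)) (P.complex_exactAt_succ n)

/-- `Tor` vanishes in positive degree when the second variable is flat. -/
theorem isZero_of_flat_right (M : ModuleCat.{u} R) (N : ModuleCat.{u} R) [Module.Flat R N] (n : ℕ) :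
    IsZero (T (n + 1) M N) := by
  induction n generalizing M with
  | zero =>
    let S := presentation M
    have hS : S.ShortExact := presentation_shortExact M
    have hm : Mono (mapL 0 S.f N) := by
      have hi : Function.Injective (S.f.hom.rTensor N) :=
        Module.Flat.rTensor_preserves_injective_linearMap _ Subtype.val_injective
      have : Mono (S.f ▷ N) := (ModuleCat.mono_iff_injective _).2 hi
      have e : mapL 0 S.f N ≫ (zeroIso S.X₂).hom.app N = (zeroIso S.X₁).hom.app N ≫ (S.f ▷ N) := by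
        haveI : PreservesFiniteColimits ((tensoringLeft (ModuleCat.{u} R)).obj S.X₁) :=
          inferInstanceAs (PreservesFiniteColimits (tensorLeft S.X₁))
        haveI : PreservesFiniteColimits ((tensoringLeft (ModuleCat.{u} R)).obj S.X₂) :=
          inferInstanceAs (PreservesFiniteColimits (tensorLeft S.X₂))
        exact Derived.Funct.leftDerived_app_fromLeftDerivedZero _ N
      have : Mono (mapL 0 S.f N ≫ (zeroIso S.X₂).hom.app N) := by rw [e]; infer_instance
      exact mono_of_mono _ ((zeroIso S.X₂).hom.app N)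
    have h0 : δL hS N 0 = 0 := by
      rw [← cancel_mono (mapL 0 S.f N), δL_mapL_f, zero_comp]
    exact (exactL₃ hS N 0).isZero_of_both_zeros
      ((isZero_of_flat_left (M := S.X₂) N 0).eq_of_src _ _) h0
  | succ n ih =>
    let S := presentation M
    have hS : S.ShortExact := presentation_shortExact M
    exact (exactL₃ hS N (n + 1)).isZero_of_both_zeros
      ((isZero_of_flat_left (M := S.X₂) N (n + 1)).eq_of_src _ _) ((ih S.X₁).eq_of_tgt _ _)

/-- If `Tor₁(M, X₂) = 0`, then `Tor₁(M, X₃) = 0` iff `M ⊗ X₁ → M ⊗ X₂` is injective. -/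
theorem isZero_one_iff (M : ModuleCat.{u} R) {S : ShortComplex (ModuleCat.{u} R)} (hS : S.ShortExact)
    (h : IsZero (T 1 M S.X₂)) :
    IsZero (T 1 M S.X₃) ↔ Function.Injective (S.f.hom.lTensor M) := by
  constructor
  · intro h₁
    haveI : Mono (mapR 0 M S.f) := (exactR₁ M hS 0).mono_g (h₁.eq_of_src _ _)
    exact injective_of_mono_tor_zero_map M S.f
  · intro hi
    haveI := mono_tor_zero_map M S.f hi
    have h0 : δR M hS 0 = 0 := by rw [← cancel_mono (mapR 0 M S.f), δR_mapR_f, zero_comp]
    exact (exactR₃ M hS 0).isZero_of_both_zeros (h.eq_of_src _ _) h0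

/-- `L₀` of a map in the first variable is the whiskering. -/
lemma mapL_zeroIso {M M' : ModuleCat.{u} R} (f : M ⟶ M') (N : ModuleCat.{u} R) :
    mapL 0 f N ≫ (zeroIso M').hom.app N = (zeroIso M).hom.app N ≫ (f ▷ N) :=
  haveI : PreservesFiniteColimits ((tensoringLeft (ModuleCat.{u} R)).obj M) :=
    inferInstanceAs (PreservesFiniteColimits (tensorLeft M))
  haveI : PreservesFiniteColimits ((tensoringLeft (ModuleCat.{u} R)).obj M') :=
    inferInstanceAs (PreservesFiniteColimits (tensorLeft M'))
  Derived.Funct.leftDerived_app_fromLeftDerivedZero _ N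

lemma subsingleton_of_isZero {X : ModuleCat.{u} R} (h : IsZero X) : Subsingleton X :=
  ModuleCat.subsingleton_of_isZero h

/-- the connecting map in the first variable is natural in the second -/
lemma δL_naturality {S : ShortComplex (ModuleCat.{u} R)} (hS : S.ShortExact)
    {N N' : ModuleCat.{u} R} (f : N ⟶ N') (n : ℕ) :
    mapR (n + 1) S.X₃ f ≫ δL hS N' n = δL hS N n ≫ mapR n S.X₁ f :=
  Derived.Funct.δ_naturality (exactOnProj hS) N f n

end Groth.Calg7.Tor
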